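import Mathlib

/-! Wielandt's count: the number of subgroups of order `p ^ β` is `1` modulo `p`. -/

set_option autoImplicit false

open scoped Pointwise

namespace CfsgLib.PGroup54

theorem card_stabilizer_dvd_card_finset {G : Type*} [Group G] [DecidableEq G] (s : Finset G) :
    Nat.card (MulAction.stabilizer G s) ∣ s.card := by
  classical
  set H := MulAction.stabilizer G s
  let A : Set G := (s : Set G)⁻¹
  have hA : (QuotientGroup.mk : G → G ⧸ H) ⁻¹' (QuotientGroup.mk '' A) = A := by
    refine subset_antisymm ?_ (Set.subset_preimage_image _ _)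
    rintro x ⟨a, ha, hax⟩
    rw [QuotientGroup.eq] at hax
    have h1 : (a⁻¹ * x)⁻¹ • s = s := H.inv_mem hax
    have h2 : (a⁻¹ * x)⁻¹ • a⁻¹ ∈ (a⁻¹ * x)⁻¹ • s :=
      Finset.smul_mem_smul_finset (by simpa [A] using ha)
    rw [h1, smul_eq_mul, mul_inv_rev, inv_inv, mul_assoc, mul_inv_cancel, mul_one] at h2
    simpa [A] using h2
  have h := Nat.card_congr (QuotientGroup.preimageMkEquivSubgroupProdSet H ((QuotientGroup.mk : G → G ⧸ H) '' A))
  rw [hA, Nat.card_prod] at h
  refine ⟨Nat.card ↥((QuotientGroup.mk : G → G ⧸ H) '' A), ?_⟩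
  rw [← h, Nat.card_coe_set_eq, show A = (fun x => x⁻¹) '' (s : Set G) from (Set.image_inv_eq_inv).symm,
    Set.ncard_image_of_injective _ inv_injective, Set.ncard_coe_finset]

theorem choose_modEq_mul_card {G : Type*} [Group G] [Finite G] (p β : ℕ) (hp : p.Prime) (m : ℕ)
    (hm : Nat.card G = p ^ β * m) :
    (Nat.card G).choose (p ^ β) ≡ m * Nat.card {H : Subgroup G // Nat.card H = p ^ β} [MOD p * m] := by
  classical
  haveI : Fintype G := Fintype.ofFinite G
  let X := {s : Finset G // s.card = p ^ β}
  letI : MulAction G X :=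
    { smul := fun g s => ⟨g • s.1, by rw [Finset.card_smul_finset]; exact s.2⟩
      one_smul := fun s => Subtype.ext (one_smul G s.1)
      mul_smul := fun g h s => Subtype.ext (mul_smul g h s.1) }
  have hst : ∀ s : X, MulAction.stabilizer G s = MulAction.stabilizer G s.1 := by
    intro s; ext g
    simp only [MulAction.mem_stabilizer_iff]
    exact Subtype.ext_iff
  have hX : Nat.card X = (Nat.card G).choose (p ^ β) := by
    rw [Nat.card_eq_fintype_card, Fintype.card_finset_len, Nat.card_eq_fintype_card]
  let S := {s : X // Nat.card (MulAction.stabilizer G s) = p ^ β}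
  let T := {s : X // ¬ Nat.card (MulAction.stabilizer G s) = p ^ β}
  have hsum : Nat.card X = Nat.card S + Nat.card T := by
    rw [← Nat.card_sum]; exact Nat.card_congr (Equiv.sumCompl _).symm
  have hcardg : ∀ (g : G) (s : X), Nat.card (MulAction.stabilizer G (g • s))
      = Nat.card (MulAction.stabilizer G s) := by
    intro g s
    rw [MulAction.stabilizer_smul_eq_stabilizer_map_conj]
    exact Subgroup.card_map_of_injective (MulAut.conj g).injective
  letI : MulAction G T :=
    { smul := fun g s => ⟨g • s.1, by rw [hcardg]; exact s.2⟩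
      one_smul := fun s => Subtype.ext (one_smul G s.1)
      mul_smul := fun g h s => Subtype.ext (mul_smul g h s.1) }
  have hT : p * m ∣ Nat.card T := by
    haveI : Fintype (MulAction.orbitRel.Quotient G T) := Fintype.ofFinite _
    rw [Nat.card_congr (MulAction.selfEquivSigmaOrbits G T), Nat.card_sigma]
    refine Finset.dvd_sum fun ω _ => ?_
    set t := ω.out with htdef
    have horb : Nat.card (MulAction.orbit G t) * Nat.card (MulAction.stabilizer G t) = Nat.card G := by
      rw [Nat.card_coe_set_eq, ← MulAction.index_stabilizer]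
      exact Subgroup.index_mul_card _
    have hstab : MulAction.stabilizer G t = MulAction.stabilizer G t.1 := by
      ext g; simp only [MulAction.mem_stabilizer_iff]; exact Subtype.ext_iff
    have hne := t.2
    obtain ⟨j, hj, hje⟩ := (Nat.dvd_prime_pow hp).mp
      (show Nat.card (MulAction.stabilizer G t.1) ∣ p ^ β by
        rw [hst]
        have h := card_stabilizer_dvd_card_finset t.1.1
        rwa [t.1.2] at h)
    have hlt : j < β := lt_of_le_of_ne hj fun e => hne (e ▸ hje)
    rw [hstab, hje, hm] at horb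
    have e : p ^ β * m = (p ^ (β - j) * m) * p ^ j := by
      rw [mul_right_comm, ← pow_add, Nat.sub_add_cancel hj]
    rw [e] at horb
    rw [Nat.eq_of_mul_eq_mul_right (pow_pos hp.pos j) horb]
    exact Nat.mul_dvd_mul_right (dvd_pow_self p (by omega)) m
  let N := {H : Subgroup G // Nat.card H = p ^ β}
  have hS : Nat.card S * p ^ β = Nat.card N * Nat.card G := by
    have hcoset : ∀ (H : Subgroup G) (g : G), MulAction.stabilizer G
        ((Finset.univ.filter fun x => x * g⁻¹ ∈ H) : Finset G) = H := by
      intro H g; ext h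
      rw [MulAction.mem_stabilizer_iff]
      constructor
      · intro e
        have h1 : h • g ∈ h • (Finset.univ.filter fun x => x * g⁻¹ ∈ H) :=
          Finset.smul_mem_smul_finset (by simp)
        rw [e] at h1
        simpa [mul_assoc] using h1
      · intro hh; ext x
        rw [← Finset.inv_smul_mem_iff]
        simp [smul_eq_mul, mul_assoc, H.mul_mem_cancel_left (H.inv_mem hh)]
    have hcard : ∀ (H : N) (g : G), (Finset.univ.filter fun x => x * g⁻¹ ∈ H.1).card = p ^ β := by
      intro H g
      refine Eq.trans ?_ H.2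
      rw [Nat.card_eq_fintype_card, ← Fintype.card_subtype]
      exact Fintype.card_congr ((Equiv.mulRight g⁻¹).subtypeEquiv fun x => Iff.rfl)
    have hfull : ∀ (s : S) (g : G), g ∈ s.1.1 →
        (Finset.univ.filter fun x => x * g⁻¹ ∈ MulAction.stabilizer G s.1.1) = s.1.1 := by
      intro s g hg
      apply Finset.eq_of_subset_of_card_le
      · intro x hx
        simp only [Finset.mem_filter, Finset.mem_univ, true_and, MulAction.mem_stabilizer_iff] at hx
        have := Finset.smul_mem_smul_finset (a := x * g⁻¹) hg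
        rw [hx] at this
        simpa using this
      · have := hcard ⟨MulAction.stabilizer G s.1.1, by rw [← hst]; exact s.2⟩ g
        rw [s.1.2]
        refine le_of_eq (this.symm.trans ?_)
        congr 1
        ext x; simp
    let e : N × G ≃ (Σ s : S, {x : G // x ∈ s.1.1}) :=
      { toFun := fun Hg => ⟨⟨⟨_, hcard Hg.1 Hg.2⟩, by rw [hst]; show Nat.card (MulAction.stabilizer G _) = _; rw [hcoset]; exact Hg.1.2⟩,
          ⟨Hg.2, by simp⟩⟩
        invFun := fun sx => (⟨MulAction.stabilizer G sx.1.1.1, by rw [← hst]; exact sx.1.2⟩, sx.2.1)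
        left_inv := fun Hg => Prod.ext (Subtype.ext (hcoset _ _)) rfl
        right_inv := fun sx => by
          refine Sigma.subtype_ext (Subtype.ext (Subtype.ext ?_)) rfl
          refine Eq.trans ?_ (hfull sx.1 sx.2.1 sx.2.2)
          ext x; simp }
    have h := Nat.card_congr e
    rw [Nat.card_prod, Nat.card_sigma] at h
    rw [h, Finset.sum_congr rfl (fun s _ => show Nat.card {x : G // x ∈ s.1.1} = p ^ β by
      rw [Nat.card_eq_fintype_card, Fintype.card_coe]; exact s.1.2), Finset.sum_const,
      Finset.card_univ, smul_eq_mul, Nat.card_eq_fintype_card]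
  rw [hm, mul_left_comm, mul_comm (Nat.card S)] at hS
  have hS' : Nat.card S = Nat.card N * m := Nat.eq_of_mul_eq_mul_left (pow_pos hp.pos β) hS
  rw [← hX, hsum, hS', mul_comm m]
  obtain ⟨k, hk⟩ := hT
  rw [hk]
  show (Nat.card N * m + p * m * k) % (p * m) = Nat.card N * m % (p * m)
  exact Nat.add_mul_mod_self_left _ _ _

theorem card_subgroup_modEq_one {G : Type*} [Group G] [Finite G] (p β : ℕ) (hp : p.Prime)
    (hdiv : p ^ β ∣ Nat.card G) :
    Nat.card {H : Subgroup G // Nat.card H = p ^ β} ≡ 1 [MOD p] := by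
  classical
  obtain ⟨m, hm⟩ := hdiv
  have hm0 : m ≠ 0 := by rintro rfl; rw [mul_zero] at hm; exact Nat.card_pos.ne' hm
  haveI : NeZero (p ^ β * m) := ⟨Nat.mul_ne_zero (pow_ne_zero _ hp.ne_zero) hm0⟩
  let C := Multiplicative (ZMod (p ^ β * m))
  have hC : Nat.card C = p ^ β * m := by
    rw [Nat.card_congr Multiplicative.toAdd, Nat.card_zmod]
  haveI : Fact p.Prime := ⟨hp⟩
  have h1 : Nat.card {H : Subgroup C // Nat.card H = p ^ β} = 1 := by
    obtain ⟨K, hK⟩ := Sylow.exists_subgroup_card_pow_prime p (G := C) (hC ▸ dvd_mul_right _ m)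
    rw [Nat.card_eq_one_iff_unique]
    refine ⟨⟨fun A B => ?_⟩, ⟨⟨K, hK⟩⟩⟩
    have key : ∀ A : {H : Subgroup C // Nat.card H = p ^ β},
        (A.1 : Set C) = {x | x ^ p ^ β = 1} := by
      intro A
      refine Set.eq_of_subset_of_ncard_le (fun x hx => ?_) ?_ (Set.toFinite _)
      · have := pow_card_eq_one' (x := (⟨x, hx⟩ : A.1))
        rw [A.2] at this
        exact congrArg Subtype.val this
      · rw [Set.ncard_eq_toFinset_card', ← Nat.card_coe_set_eq]
        refine le_trans ?_ A.2.ge
        rw [Set.toFinset_setOf]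
        exact IsCyclic.card_pow_eq_one_le (pow_pos hp.pos β)
    exact Subtype.ext (SetLike.coe_injective ((key A).trans (key B).symm))
  have e1 := choose_modEq_mul_card (G := C) p β hp m hC
  have e2 := choose_modEq_mul_card (G := G) p β hp m hm
  rw [hC, h1] at e1
  rw [hm] at e2
  have h := e2.symm.trans e1
  rw [mul_comm p m] at h
  exact Nat.ModEq.mul_left_cancel' hm0 h

end CfsgLib.PGroup54
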